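import Groth.Agent.Quiet96.Tower
import Mathlib.AlgebraicGeometry.Morphisms.Etale
import Mathlib.AlgebraicGeometry.Morphisms.Flat

/-! Base change of towers of p-th roots and of quasi-étale morphisms. -/

set_option autoImplicit false
universe u

open TensorProduct CategoryTheory CategoryTheory.Limits AlgebraicGeometry

namespace Groth.Agent.Quiet96

/-- towers are invariant under isomorphisms of the top -/
theorem tower_congr (p : ℕ) : ∀ (n : ℕ) (A B B' : Type u) [CommRing A] [CommRing B] [CommRing B']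
    [Algebra A B] [Algebra A B'], (B ≃ₐ[A] B') → Quiet.IsRootTower p n A B → Quiet.IsRootTower p n A B'
  | 0, A, B, B', _, _, _, _, _, e, h => ⟨e.symm.trans h.some⟩
  | n + 1, A, B, B', _, _, _, _, _, e, h => by
    obtain ⟨a, i, hs, hn⟩ := h
    letI : Algebra (Quiet.RootRing p A a) B' := (e.toAlgHom.toRingHom.comp (algebraMap (Quiet.RootRing p A a) B)).toAlgebra
    have : IsScalarTower A (Quiet.RootRing p A a) B' := .of_algebraMap_eq fun x => by
      show algebraMap A B' x = e (algebraMap (Quiet.RootRing p A a) B (algebraMap A _ x))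
      rw [← IsScalarTower.algebraMap_apply, e.commutes]
    exact ⟨a, inferInstance, this, tower_congr p n _ B B' { e.toRingEquiv with commutes' := fun _ => rfl } hn⟩

theorem tower_baseChange (p : ℕ) : ∀ (n : ℕ) (A B : Type u) [CommRing A] [CommRing B] [Algebra A B]
    (T : Type u) [CommRing T] [Algebra A T],
    Quiet.IsRootTower p n A B → Quiet.IsRootTower p n T (T ⊗[A] B)
  | 0, A, B, _, _, _, T, _, _, h => by
    obtain ⟨e⟩ := h
    exact ⟨(Algebra.TensorProduct.congr (AlgEquiv.refl : T ≃ₐ[T] T) e).trans (Algebra.TensorProduct.rid A T T)⟩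
  | n + 1, A, B, _, _, _, T, _, _, h => by
    obtain ⟨a, _, hs, hn⟩ := h
    let R₁ := Quiet.RootRing p A a
    let R₂ := Quiet.RootRing p T (algebraMap A T a)
    let f₁ : Polynomial A := Polynomial.X ^ p - Polynomial.C a
    let f₂ : Polynomial T := Polynomial.X ^ p - Polynomial.C (algebraMap A T a)
    let x : T ⊗[A] B := (1 : T) ⊗ₜ[A] algebraMap R₁ B (AdjoinRoot.root f₁)
    have hb : (algebraMap R₁ B (AdjoinRoot.root f₁)) ^ p = algebraMap A B a := by
      have h0 := AdjoinRoot.eval₂_root f₁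
      rw [Polynomial.eval₂_sub, Polynomial.eval₂_X_pow, Polynomial.eval₂_C, sub_eq_zero] at h0
      rw [← map_pow, h0, IsScalarTower.algebraMap_apply A R₁ B]
      rfl
    have hx : x ^ p = algebraMap A (T ⊗[A] B) a := by
      rw [Algebra.TensorProduct.tmul_pow, one_pow, hb]
      exact (Algebra.TensorProduct.tmul_one_eq_one_tmul a).symm
    let ψ : R₂ →ₐ[T] T ⊗[A] B := AdjoinRoot.liftAlgHom f₂ (Algebra.ofId T _) x (by
      rw [Polynomial.eval₂_sub, Polynomial.eval₂_X_pow, Polynomial.eval₂_C, hx, sub_eq_zero]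
      exact (IsScalarTower.algebraMap_apply A T (T ⊗[A] B) a))
    let φ : R₁ →+* R₂ := AdjoinRoot.lift ((algebraMap T R₂).comp (algebraMap A T)) (AdjoinRoot.root f₂) (by
      have h0 := AdjoinRoot.eval₂_root f₂
      rw [Polynomial.eval₂_sub, Polynomial.eval₂_X_pow, Polynomial.eval₂_C, sub_eq_zero] at h0
      rw [Polynomial.eval₂_sub, Polynomial.eval₂_X_pow, Polynomial.eval₂_C, h0, sub_eq_zero]
      rfl)
    letI : Algebra R₁ R₂ := φ.toAlgebra
    letI : Algebra R₂ (T ⊗[A] B) := ψ.toRingHom.toAlgebra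
    have st1 : IsScalarTower T R₂ (T ⊗[A] B) := .of_algebraMap_eq fun t => (ψ.commutes t).symm
    have hψφ : ∀ r : R₁, ψ (φ r) = (1 : T) ⊗ₜ[A] algebraMap R₁ B r := by
      have : ψ.toRingHom.comp φ =
          (Algebra.TensorProduct.includeRight : B →ₐ[A] T ⊗[A] B).toRingHom.comp (algebraMap R₁ B) := by
        refine Ideal.Quotient.ringHom_ext (Polynomial.ringHom_ext (fun c => ?_) ?_)
        · show ψ (φ (AdjoinRoot.of f₁ c)) = (1 : T) ⊗ₜ[A] algebraMap R₁ B (AdjoinRoot.of f₁ c)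
          rw [AdjoinRoot.lift_of, RingHom.comp_apply, ψ.commutes]
          rw [show algebraMap R₁ B (AdjoinRoot.of f₁ c) = algebraMap A B c from
            (IsScalarTower.algebraMap_apply A R₁ B c).symm]
          exact Algebra.TensorProduct.tmul_one_eq_one_tmul c
        · show ψ (φ (AdjoinRoot.root f₁)) = x
          rw [AdjoinRoot.lift_root, AdjoinRoot.liftAlgHom_root]
      exact fun r => congr($this r)
    letI : Algebra R₁ (T ⊗[A] B) := (ψ.toRingHom.comp φ).toAlgebra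
    let inr : B →ₐ[R₁] T ⊗[A] B :=
      { (Algebra.TensorProduct.includeRight : B →ₐ[A] T ⊗[A] B).toRingHom with
        commutes' := fun r => (hψφ r).symm }
    have st2 : IsScalarTower R₁ R₂ (T ⊗[A] B) := .of_algebraMap_eq fun _ => rfl
    let fwd : R₂ ⊗[R₁] B →ₐ[R₂] T ⊗[A] B :=
      Algebra.TensorProduct.lift (Algebra.ofId R₂ _) inr fun _ _ => Commute.all _ _
    have st3 : IsScalarTower A R₁ R₂ := .of_algebraMap_eq fun c => (AdjoinRoot.lift_of _).symm
    let i1 : T →ₐ[A] R₂ ⊗[R₁] B :=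
      { (algebraMap R₂ (R₂ ⊗[R₁] B)).comp (algebraMap T R₂) with
        commutes' := fun c => by
          show (algebraMap T R₂ (algebraMap A T c)) ⊗ₜ[R₁] (1 : B) = algebraMap A (R₂ ⊗[R₁] B) c
          rw [Algebra.TensorProduct.algebraMap_apply]
          rfl }
    let inv : T ⊗[A] B →ₐ[A] R₂ ⊗[R₁] B :=
      Algebra.TensorProduct.lift i1
        ((Algebra.TensorProduct.includeRight : B →ₐ[R₁] R₂ ⊗[R₁] B).restrictScalars A)
        fun _ _ => Commute.all _ _
    have hinvψ : ∀ r : R₂, inv (ψ r) = r ⊗ₜ[R₁] (1 : B) := by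
      have : inv.toRingHom.comp ψ.toRingHom = (algebraMap R₂ (R₂ ⊗[R₁] B)) := by
        refine Ideal.Quotient.ringHom_ext (Polynomial.ringHom_ext (fun t => ?_) ?_)
        · show inv (ψ (algebraMap T R₂ t)) = algebraMap T R₂ t ⊗ₜ[R₁] (1 : B)
          rw [ψ.commutes, Algebra.TensorProduct.algebraMap_apply, Algebra.algebraMap_self_apply,
            Algebra.TensorProduct.lift_tmul, map_one, mul_one]
          rfl
        · show inv (ψ (AdjoinRoot.root f₂)) = AdjoinRoot.root f₂ ⊗ₜ[R₁] (1 : B)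
          rw [AdjoinRoot.liftAlgHom_root, Algebra.TensorProduct.lift_tmul, map_one, one_mul]
          show (1 : R₂) ⊗ₜ[R₁] algebraMap R₁ B (AdjoinRoot.root f₁) = _
          rw [← Algebra.TensorProduct.tmul_one_eq_one_tmul]
          congr 1
          exact AdjoinRoot.lift_root _
      exact fun r => congr($this r)
    have h1 : ∀ z, inv (fwd z) = z := fun z => by
      induction z with
      | zero => simp
      | add z w hz hw => rw [map_add, map_add, hz, hw]
      | tmul r b =>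
        rw [Algebra.TensorProduct.lift_tmul, map_mul]
        show inv (ψ r) * inv ((1 : T) ⊗ₜ[A] b) = _
        rw [hinvψ, Algebra.TensorProduct.lift_tmul, map_one, one_mul]
        show (r ⊗ₜ[R₁] (1 : B)) * ((1 : R₂) ⊗ₜ[R₁] b) = _
        rw [Algebra.TensorProduct.tmul_mul_tmul, mul_one, one_mul]
    have h2 : ∀ z, fwd (inv z) = z := fun z => by
      induction z with
      | zero => simp
      | add z w hz hw => rw [map_add, map_add, hz, hw]
      | tmul t b =>
        rw [Algebra.TensorProduct.lift_tmul, map_mul]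
        show fwd (algebraMap T R₂ t ⊗ₜ[R₁] (1 : B)) * fwd ((1 : R₂) ⊗ₜ[R₁] b) = _
        rw [Algebra.TensorProduct.lift_tmul, Algebra.TensorProduct.lift_tmul, map_one, mul_one, map_one, one_mul]
        show ψ (algebraMap T R₂ t) * ((1 : T) ⊗ₜ[A] b) = _
        rw [ψ.commutes, Algebra.TensorProduct.algebraMap_apply, Algebra.algebraMap_self_apply,
          Algebra.TensorProduct.tmul_mul_tmul, mul_one, one_mul]
    let e : R₂ ⊗[R₁] B ≃ₐ[R₂] T ⊗[A] B :=
      AlgEquiv.ofBijective fwd ⟨Function.LeftInverse.injective h1, Function.RightInverse.surjective h2⟩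
    exact ⟨algebraMap A T a, inferInstance, st1,
      tower_congr p n R₂ _ _ e (tower_baseChange p n R₁ B R₂ hn)⟩

set_option backward.isDefEq.respectTransparency.types false in
theorem isPthRoot_baseChange (p : ℕ) {V Y' V₂ Y₂ : Scheme.{u}} {r : V ⟶ Y'} {h : Y₂ ⟶ Y'}
    {q : V₂ ⟶ V} {r₂ : V₂ ⟶ Y₂} (H : IsPullback q r₂ r h) (hr : Quiet.IsPthRoot p r) :
    Quiet.IsPthRoot p r₂ := by
  intro z
  obtain ⟨U, hzU, hpre, n, htow⟩ := hr (h z)
  obtain ⟨_, ⟨W₁, hW, rfl⟩, hzW, hWle⟩ :=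
    Y₂.isBasis_affineOpens.exists_subset_of_mem_open (show z ∈ h ⁻¹ᵁ U.1 from hzU) (h ⁻¹ᵁ U.1).2
  let W : Y₂.Opens := W₁
  have hWU : W ≤ h ⁻¹ᵁ U.1 := hWle
  have hW' : IsAffineOpen W := hW
  have hUY : r₂ ⁻¹ᵁ W = q ⁻¹ᵁ (r ⁻¹ᵁ U.1) ⊓ r₂ ⁻¹ᵁ W := by
    refine (inf_eq_right.2 fun x hx => ?_).symm
    show r (q x) ∈ U.1
    rw [← Scheme.Hom.comp_apply, H.w]
    exact hWU hx
  have : IsAffine _ := U.2
  have : IsAffine _ := hpre
  have : IsAffine _ := hW'
  have hpre₂ : IsAffineOpen (r₂ ⁻¹ᵁ W) :=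
    .of_isIso (Scheme.Hom.isPullback_resLE H hWU le_rfl hUY).isoPullback.hom
  refine ⟨⟨W, hW'⟩, hzW, hpre₂, n, ?_⟩
  have hiso := isIso_pushoutSection_of_isAffineOpen H hWU (le_refl (r ⁻¹ᵁ U.1)) hUY U.2 hW' hpre
  have hP := (isIso_pushoutSection_iff H hWU (le_refl (r ⁻¹ᵁ U.1)) hUY).1 hiso
  let A := Γ(Y', U.1)
  let B := Γ(V, r ⁻¹ᵁ U.1)
  let T := Γ(Y₂, W)
  let S := Γ(V₂, r₂ ⁻¹ᵁ W)
  letI : Algebra A B := (r.app U.1).hom.toAlgebra
  letI : Algebra A T := (h.appLE U.1 W hWU).hom.toAlgebra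
  letI : Algebra T S := (r₂.app W).hom.toAlgebra
  letI : Algebra B S := (q.appLE (r ⁻¹ᵁ U.1) (r₂ ⁻¹ᵁ W) (hUY.le.trans inf_le_left)).hom.toAlgebra
  letI : Algebra A S := ((algebraMap B S).comp (algebraMap A B)).toAlgebra
  have : IsScalarTower A B S := .of_algebraMap_eq fun _ => rfl
  have : IsScalarTower A T S := .of_algebraMap_eq fun x => by
    show (q.appLE (r ⁻¹ᵁ U.1) (r₂ ⁻¹ᵁ W) _).hom ((r.app U.1).hom x) = (r₂.app W).hom ((h.appLE U.1 W hWU).hom x)
    rw [Scheme.Hom.app_eq_appLE, Scheme.Hom.app_eq_appLE]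
    exact congr($(hP.w).hom x)
  have hP' : Algebra.IsPushout A B T S := by
    refine CommRingCat.isPushout_iff_isPushout.1 ?_
    show CategoryTheory.IsPushout (r.app U.1) (h.appLE U.1 W hWU)
      (q.appLE (r ⁻¹ᵁ U.1) (r₂ ⁻¹ᵁ W) _) (r₂.app W)
    simp only [Scheme.Hom.app_eq_appLE]
    exact hP
  have := hP'.symm
  exact tower_congr p n T _ _ (Algebra.IsPushout.equiv A T B S) (tower_baseChange p n A B T htow)

theorem isQuiet_baseChange (p : ℕ) {X Y X' Y' : Scheme.{u}} (f : Y ⟶ X) (g : X' ⟶ X) (f' : Y' ⟶ X')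
    (g' : Y' ⟶ Y) (H : IsPullback g' f' f g) (hf : Quiet.IsQuiet p f) : Quiet.IsQuiet p f' := by
  intro y
  obtain ⟨V, Z, r, e, hy, hr, he, eq⟩ := hf (g' y)
  let V' : Y'.Opens := g' ⁻¹ᵁ V
  have hV : IsPullback (g' ∣_ V) V'.ι V.ι g' := isPullback_morphismRestrict g' V
  have hVX : IsPullback (g' ∣_ V) (V'.ι ≫ f') (r ≫ e) g := by
    rw [eq]; exact hV.paste_vert H
  let l : (V' : Scheme.{u}) ⟶ pullback e g :=
    pullback.lift ((g' ∣_ V) ≫ r) (V'.ι ≫ f') (by rw [Category.assoc]; exact hVX.w)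
  refine ⟨V', pullback e g, l, pullback.snd e g, hy, ?_, inferInstance, pullback.lift_snd _ _ _⟩
  refine isPthRoot_baseChange p (q := g' ∣_ V) (h := pullback.fst e g) ?_ hr
  refine IsPullback.of_bot ?_ (pullback.lift_fst _ _ _).symm (IsPullback.of_hasPullback e g)
  rwa [pullback.lift_snd]

end Groth.Agent.Quiet96
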