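import Groth.Agent.Quiet96.Radicial
import Groth.Agent.Unr55.Et.UHEquiv

/-! Composites of quasi-étale morphisms. -/

set_option autoImplicit false
universe u

open TensorProduct CategoryTheory CategoryTheory.Limits AlgebraicGeometry

namespace Groth.Agent.Quiet96

theorem tower_localize (p n : ℕ) {A B A' B' : Type u} [CommRing A] [CommRing B] [CommRing A'] [CommRing B']
    [Algebra A B] [Algebra A A'] [Algebra B B'] [Algebra A B'] [Algebra A' B']
    [IsScalarTower A B B'] [IsScalarTower A A' B'] (a : A) [IsLocalization.Away a A']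
    [IsLocalization.Away (algebraMap A B a) B'] (h : Quiet.IsRootTower p n A B) :
    Quiet.IsRootTower p n A' B' := by
  have : IsLocalization (Algebra.algebraMapSubmonoid B (Submonoid.powers a)) B' := by
    rw [Algebra.algebraMapSubmonoid, Submonoid.map_powers]; infer_instance
  have hp : Algebra.IsPushout A B A' B' :=
    Algebra.isPushout_of_isLocalization (R := A) (Submonoid.powers a) (A := A') B B'
  have := hp.symm
  exact tower_congr p n A' _ _ (Algebra.IsPushout.equiv A A' B B') (tower_baseChange p n A B A' h)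

theorem tower_trans (p : ℕ) : ∀ (n m : ℕ) (A B C : Type u) [CommRing A] [CommRing B] [CommRing C]
    [Algebra A B] [Algebra B C] [Algebra A C] [IsScalarTower A B C],
    Quiet.IsRootTower p n A B → Quiet.IsRootTower p m B C → Quiet.IsRootTower p (n + m) A C
  | 0, m, A, B, C, _, _, _, _, _, _, _, h, h' => by
    obtain ⟨e⟩ := h
    rw [Nat.zero_add]
    letI : Algebra B A := e.toAlgHom.toRingHom.toAlgebra
    have : IsScalarTower B A C := .of_algebraMap_eq fun b => by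
      show algebraMap B C b = algebraMap A C (e b)
      rw [IsScalarTower.algebraMap_apply A B C]
      congr 1
      rw [← e.symm.commutes]
      exact (e.symm_apply_apply b).symm
    have hP : Algebra.IsPushout B C A C := Algebra.IsPushout.of_bijective_left (R := B) (A := A) (T := C) e.bijective
    have := hP.symm
    exact tower_congr p m A _ _ (Algebra.IsPushout.equiv B A C C) (tower_baseChange p m B C A h')
  | n + 1, m, A, B, C, _, _, _, _, _, _, _, h, h' => by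
    obtain ⟨a, _, hs, hn⟩ := h
    rw [Nat.succ_add]
    let R := Quiet.RootRing p A a
    letI : Algebra R C := ((algebraMap B C).comp (algebraMap R B)).toAlgebra
    have : IsScalarTower R B C := .of_algebraMap_eq fun _ => rfl
    have : IsScalarTower A R C := .of_algebraMap_eq fun x => by
      show algebraMap A C x = algebraMap B C (algebraMap R B (algebraMap A R x))
      rw [← IsScalarTower.algebraMap_apply A R B, ← IsScalarTower.algebraMap_apply A B C]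
    exact ⟨a, inferInstance, inferInstance, tower_trans p n m R B C hn h'⟩

/-- the affine opens carrying a tower -/
def HasTower (p : ℕ) {V Y : Scheme.{u}} (r : V ⟶ Y) (U : Y.affineOpens) : Prop :=
  IsAffineOpen (r ⁻¹ᵁ U.1) ∧
    letI := (r.app U.1).hom.toAlgebra
    ∃ n : ℕ, Quiet.IsRootTower p n Γ(Y, U.1) Γ(V, r ⁻¹ᵁ U.1)

theorem HasTower.basicOpen {p : ℕ} {V Y : Scheme.{u}} {r : V ⟶ Y} {U : Y.affineOpens}
    (h : HasTower p r U) (a : Γ(Y, U.1)) : HasTower p r ⟨Y.basicOpen a, U.2.basicOpen a⟩ := by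
  obtain ⟨hpre, n, htow⟩ := h
  have hpreD : r ⁻¹ᵁ Y.basicOpen a = V.basicOpen (r.app U.1 a) := Scheme.preimage_basicOpen r a
  refine ⟨by rw [hpreD]; exact hpre.basicOpen _, ?_⟩
  let D := Y.basicOpen a
  let A := Γ(Y, U.1)
  let B := Γ(V, r ⁻¹ᵁ U.1)
  let A' := Γ(Y, D)
  let B' := Γ(V, r ⁻¹ᵁ D)
  letI : Algebra A B := (r.app U.1).hom.toAlgebra
  let i₁ : D ≤ U.1 := Y.basicOpen_le a
  let i₂ : r ⁻¹ᵁ D ≤ r ⁻¹ᵁ U.1 := fun x hx => i₁ hx
  letI : Algebra A A' := (Y.presheaf.map (homOfLE i₁).op).hom.toAlgebra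
  letI : Algebra B B' := (V.presheaf.map (homOfLE i₂).op).hom.toAlgebra
  letI : Algebra A' B' := (r.app D).hom.toAlgebra
  letI : Algebra A B' := ((algebraMap B B').comp (algebraMap A B)).toAlgebra
  have : IsScalarTower A B B' := .of_algebraMap_eq fun _ => rfl
  have : IsScalarTower A A' B' := .of_algebraMap_eq fun x =>
    (congr($(Scheme.Hom.naturality r (homOfLE i₁).op).hom x)).symm
  have : IsLocalization.Away a A' := U.2.isLocalization_basicOpen a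
  have : IsLocalization.Away (algebraMap A B a) B' :=
    hpre.isLocalization_of_eq_basicOpen (algebraMap A B a) (homOfLE i₂) hpreD
  exact ⟨n, tower_localize p n (A := A) (B := B) (A' := A') (B' := B') a htow⟩

theorem isPthRoot_comp (p : ℕ) [hp : Fact p.Prime] {Z V Y : Scheme.{u}} [FrobSch.IsCharP Y p] (s : Z ⟶ V)
    (r : V ⟶ Y) (hs : Quiet.IsPthRoot p s) (hr : Quiet.IsPthRoot p r) : Quiet.IsPthRoot p (s ≫ r) := by
  intro y
  obtain ⟨x, hxy⟩ := (univHomeo_isPthRoot p r hr).2.2.surj y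
  obtain ⟨U, hyU, hpre, n, htow⟩ := hr y
  obtain ⟨U₂, hxU₂, hT₂⟩ := hs x
  have hxU : x ∈ r ⁻¹ᵁ U.1 := (hxy ▸ hyU : r x ∈ U.1)
  obtain ⟨b₂, hb₂, hxb₂⟩ := U₂.2.exists_basicOpen_le (V := r ⁻¹ᵁ U.1) ⟨x, hxU⟩ hxU₂
  have hT₃ := HasTower.basicOpen (show HasTower p s U₂ from hT₂) b₂
  obtain ⟨b, hb, hxb⟩ := hpre.exists_basicOpen_le (V := V.basicOpen b₂) ⟨x, hxb₂⟩ hxU
  letI := (r.app U.1).hom.toAlgebra
  obtain ⟨c, hc⟩ := (tower_radical p n Γ(Y, U.1) Γ(V, r ⁻¹ᵁ U.1) (FrobSch.natCast_eq_zero_app Y p _) htow).2.2 b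
  have hDb : r ⁻¹ᵁ Y.basicOpen c = V.basicOpen b := by
    rw [Scheme.preimage_basicOpen]
    rw [show r.app U.1 c = b ^ p ^ n from hc, Scheme.basicOpen_pow _ _ (pow_pos hp.out.pos n)]
  have hT₄ := hT₃.basicOpen (show Γ(V, (V.basicOpen b₂)) from V.presheaf.map (homOfLE hb₂).op b)
  have hD' : V.basicOpen (V.presheaf.map (homOfLE hb₂).op b) = r ⁻¹ᵁ Y.basicOpen c := by
    rw [Scheme.basicOpen_res, hDb]
    exact inf_eq_right.2 hb
  obtain ⟨hprer, n', htow'⟩ := HasTower.basicOpen (show HasTower p r U from ⟨hpre, n, htow⟩) c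
  have hT₅ : HasTower p s ⟨r ⁻¹ᵁ Y.basicOpen c, hprer⟩ := by
    convert hT₄ using 1
    exact Subtype.ext hD'.symm
  obtain ⟨hpres, m, htow''⟩ := hT₅
  refine ⟨⟨Y.basicOpen c, U.2.basicOpen c⟩, ?_, hpres, n' + m, ?_⟩
  · have : x ∈ r ⁻¹ᵁ Y.basicOpen c := hDb ▸ hxb
    exact hxy ▸ this
  letI := (r.app (Y.basicOpen c)).hom.toAlgebra
  letI : Algebra Γ(V, r ⁻¹ᵁ Y.basicOpen c) Γ(Z, (s ≫ r) ⁻¹ᵁ Y.basicOpen c) :=
    (s.app (r ⁻¹ᵁ Y.basicOpen c)).hom.toAlgebra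
  letI := ((s ≫ r).app (Y.basicOpen c)).hom.toAlgebra
  have : IsScalarTower Γ(Y, Y.basicOpen c) Γ(V, r ⁻¹ᵁ Y.basicOpen c) Γ(Z, (s ≫ r) ⁻¹ᵁ Y.basicOpen c) :=
    .of_algebraMap_eq fun t => by
      show ((s ≫ r).app (Y.basicOpen c)).hom t = _
      rw [Scheme.Hom.comp_app]; rfl
  exact tower_trans p n' m Γ(Y, Y.basicOpen c) Γ(V, r ⁻¹ᵁ Y.basicOpen c) Γ(Z, (s ≫ r) ⁻¹ᵁ Y.basicOpen c) htow' htow''

theorem isPthRoot_restrict (p : ℕ) {V Y : Scheme.{u}} (r : V ⟶ Y) (hr : Quiet.IsPthRoot p r) (O : Y.Opens) :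
    Quiet.IsPthRoot p (r ∣_ O) :=
  isPthRoot_baseChange p (q := (r ⁻¹ᵁ O).ι) (h := O.ι) (isPullback_morphismRestrict r O).flip hr

theorem isQuiet_comp (p : ℕ) [Fact p.Prime] {X Y Z : Scheme.{u}} [FrobSch.IsCharP X p] (f : Y ⟶ X)
    (g : Z ⟶ Y) (hf : Quiet.IsQuiet p f) (hg : Quiet.IsQuiet p g) : Quiet.IsQuiet p (g ≫ f) := by
  intro z
  obtain ⟨V₂, Y₂, r₂, e₂, hz, hr₂, he₂, eq₂⟩ := hg z
  obtain ⟨V₁, Y₁, r₁, e₁, hgz, hr₁, he₁, eq₁⟩ := hf (g z)
  have : FrobSch.IsCharP Y₁ p := FrobSch.IsCharP.of_hom e₁ p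
  obtain ⟨hint, hui, hsj⟩ := univHomeo_isPthRoot p r₁ hr₁
  have hx : r₂ ⟨z, hz⟩ ∈ e₂ ⁻¹ᵁ V₁ := by
    show e₂ (r₂ ⟨z, hz⟩) ∈ V₁
    have h0 := congr($(eq₂) ⟨z, hz⟩)
    exact (show e₂ (r₂ ⟨z, hz⟩) = g z from h0) ▸ hgz
  obtain ⟨W, hW, ⟨L⟩⟩ := Unr55.EtGlue.lift_of_isIntegralHom r₁ _ (e₂ ∣_ V₁) ⟨_, hx⟩
  let O : Y₂.Opens := (e₂ ⁻¹ᵁ V₁).ι ''ᵁ W
  have ha : Quiet.IsPthRoot p L.a := isPthRoot_baseChange p L.isPullback.flip hr₁
  have : FrobSch.IsCharP L.V p := FrobSch.IsCharP.of_hom L.q p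
  let j : (W : Scheme.{u}) ⟶ Y₂ := W.ι ≫ (e₂ ⁻¹ᵁ V₁).ι
  have hs : Quiet.IsPthRoot p (pullback.snd r₂ j) :=
    isPthRoot_baseChange p (IsPullback.of_hasPullback r₂ j) hr₂
  let k : pullback r₂ j ⟶ Z := pullback.fst r₂ j ≫ V₂.ι
  have : IsOpenImmersion k := inferInstance
  refine ⟨k.opensRange, L.V, k.isoOpensRange.inv ≫ pullback.snd r₂ j ≫ L.a, L.q ≫ e₁, ?_, ?_, inferInstance, ?_⟩
  · obtain ⟨w, hw1, -⟩ := Scheme.Pullback.exists_preimage_pullback (f := r₂) (g := j) ⟨z, hz⟩ ⟨_, hW⟩ rfl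
    exact ⟨w, by rw [Scheme.Hom.comp_apply, hw1]; rfl⟩
  · refine isPthRoot_baseChange p (q := k.isoOpensRange.inv) (h := 𝟙 L.V) ?_ (isPthRoot_comp p _ _ hs ha)
    exact IsPullback.of_horiz_isIso ⟨by simp⟩
  · have h1 : L.a ≫ L.q = (W.ι ≫ (e₂ ∣_ V₁)) ≫ r₁ := L.isPullback.w
    rw [← cancel_epi k.isoOpensRange.hom]
    simp only [Category.assoc, Iso.hom_inv_id_assoc]
    rw [Scheme.Hom.isoOpensRange_hom_ι_assoc]
    rw [reassoc_of% h1, eq₁]
    simp only [k, Category.assoc]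
    rw [morphismRestrict_ι_assoc, ← reassoc_of% eq₂]
    exact (pullback.condition_assoc (f := r₂) (g := j) (e₂ ≫ f)).symm.trans (by simp)

end Groth.Agent.Quiet96
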