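import Groth.Agent.Quiet96.Comp

/-! Lifting quasi-étale morphisms along thickenings. -/

set_option autoImplicit false
universe u

open TensorProduct CategoryTheory CategoryTheory.Limits AlgebraicGeometry

namespace Groth.Agent.Quiet96

attribute [local instance] Algebra.TensorProduct.rightAlgebra

theorem exists_tower_lift (p : ℕ) : ∀ (n : ℕ) (A' A B : Type u) [CommRing A'] [CommRing A] [CommRing B]
    [Algebra A' A] [Algebra A B], Function.Surjective (algebraMap A' A) → Quiet.IsRootTower p n A B →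
    ∃ (B' : Type u) (_ : CommRing B') (_ : Algebra A' B'), Quiet.IsRootTower p n A' B' ∧
      Nonempty (A ⊗[A'] B' ≃ₐ[A] B)
  | 0, A', A, B, _, _, _, _, _, _, h => by
    obtain ⟨e⟩ := h
    exact ⟨A', inferInstance, inferInstance, ⟨AlgEquiv.refl⟩, ⟨(Algebra.TensorProduct.rid A' A A).trans e.symm⟩⟩
  | n + 1, A', A, B, _, _, _, _, _, hsurj, h => by
    obtain ⟨a, _, hs, hn⟩ := h
    obtain ⟨a', rfl⟩ := hsurj a
    let R' := Quiet.RootRing p A' a'
    let R := Quiet.RootRing p A (algebraMap A' A a')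
    let f' : Polynomial A' := Polynomial.X ^ p - Polynomial.C a'
    let f : Polynomial A := Polynomial.X ^ p - Polynomial.C (algebraMap A' A a')
    have hroot : (AdjoinRoot.root f) ^ p = algebraMap A R (algebraMap A' A a') := by
      have h0 := AdjoinRoot.eval₂_root f
      rw [Polynomial.eval₂_sub, Polynomial.eval₂_X_pow, Polynomial.eval₂_C, sub_eq_zero] at h0
      exact h0
    let φ : R' →+* R := AdjoinRoot.lift ((algebraMap A R).comp (algebraMap A' A)) (AdjoinRoot.root f) (by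
      rw [Polynomial.eval₂_sub, Polynomial.eval₂_X_pow, Polynomial.eval₂_C, hroot, sub_eq_zero]
      rfl)
    letI : Algebra R' R := φ.toAlgebra
    have hφsurj : Function.Surjective (algebraMap R' R) := by
      intro z
      obtain ⟨P, rfl⟩ := AdjoinRoot.mk_surjective (g := f) z
      obtain ⟨P', rfl⟩ := Polynomial.map_surjective _ hsurj P
      refine ⟨AdjoinRoot.mk f' P', ?_⟩
      show φ (AdjoinRoot.mk f' P') = _
      induction P' using Polynomial.induction_on' with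
      | add P Q hP hQ => rw [Polynomial.map_add, map_add, map_add, map_add, hP, hQ]
      | monomial m c =>
        rw [Polynomial.map_monomial, ← Polynomial.C_mul_X_pow_eq_monomial, ← Polynomial.C_mul_X_pow_eq_monomial,
          map_mul, map_mul, map_mul, map_pow, map_pow, map_pow, AdjoinRoot.mk_C, AdjoinRoot.mk_X,
          AdjoinRoot.lift_of, AdjoinRoot.lift_root, AdjoinRoot.mk_C, AdjoinRoot.mk_X]
        rfl
    obtain ⟨B', _, _, htow, ⟨e⟩⟩ := exists_tower_lift p n R' R B hφsurj hn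
    letI : Algebra A' B' := ((algebraMap R' B').comp (algebraMap A' R')).toAlgebra
    have : IsScalarTower A' R' B' := .of_algebraMap_eq fun _ => rfl
    refine ⟨B', inferInstance, inferInstance, ⟨a', inferInstance, inferInstance, htow⟩, ?_⟩
    have : IsScalarTower A' A R := .of_algebraMap_eq fun _ => rfl
    have : IsScalarTower A' R' R := .of_algebraMap_eq fun c => (AdjoinRoot.lift_of _).symm
    let fwd : A ⊗[A'] R' →ₐ[A] R :=
      Algebra.TensorProduct.lift (Algebra.ofId A R) (IsScalarTower.toAlgHom A' R' R) fun _ _ => Commute.all _ _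
    let bwd : R →ₐ[A] A ⊗[A'] R' :=
      AdjoinRoot.liftAlgHom f (Algebra.ofId A _) ((1 : A) ⊗ₜ[A'] AdjoinRoot.root f') (by
        have h0 := AdjoinRoot.eval₂_root f'
        rw [Polynomial.eval₂_sub, Polynomial.eval₂_X_pow, Polynomial.eval₂_C, sub_eq_zero] at h0
        rw [Polynomial.eval₂_sub, Polynomial.eval₂_X_pow, Polynomial.eval₂_C, Algebra.TensorProduct.tmul_pow,
          one_pow, h0, sub_eq_zero]
        exact (Algebra.TensorProduct.tmul_one_eq_one_tmul a').symm)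
    let eR : A ⊗[A'] R' ≃ₐ[A] R := AlgEquiv.ofAlgHom fwd bwd
      (AdjoinRoot.algHom_ext (by
        show fwd (bwd (AdjoinRoot.root f)) = AdjoinRoot.root f
        rw [AdjoinRoot.liftAlgHom_root, Algebra.TensorProduct.lift_tmul, map_one, one_mul]
        show φ (AdjoinRoot.root f') = _
        rw [AdjoinRoot.lift_root]))
      (Algebra.TensorProduct.ext' fun x r => by
        have hb : ∀ r : R', bwd (φ r) = (1 : A) ⊗ₜ[A'] r := by
          have : bwd.toRingHom.comp φ = (Algebra.TensorProduct.includeRight : R' →ₐ[A'] A ⊗[A'] R').toRingHom := by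
            refine Ideal.Quotient.ringHom_ext (Polynomial.ringHom_ext (fun c => ?_) ?_)
            · show bwd (φ (AdjoinRoot.of f' c)) = (1 : A) ⊗ₜ[A'] AdjoinRoot.of f' c
              rw [AdjoinRoot.lift_of, RingHom.comp_apply, bwd.commutes]
              exact Algebra.TensorProduct.tmul_one_eq_one_tmul c
            · show bwd (φ (AdjoinRoot.root f')) = (1 : A) ⊗ₜ[A'] AdjoinRoot.root f'
              rw [AdjoinRoot.lift_root, AdjoinRoot.liftAlgHom_root]
          exact fun r => congr($this r)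
        show bwd (fwd (x ⊗ₜ r)) = x ⊗ₜ[A'] r
        rw [Algebra.TensorProduct.lift_tmul, map_mul]
        show bwd (algebraMap A R x) * bwd (φ r) = _
        rw [AlgHom.commutes, hb]
        rw [Algebra.TensorProduct.algebraMap_apply, Algebra.algebraMap_self_apply,
          Algebra.TensorProduct.tmul_mul_tmul, mul_one, one_mul])
    have : Algebra.IsPushout A' A R' R := by
      refine Algebra.IsPushout.of_equiv (h := inferInstance) eR ?_
      refine RingHom.ext fun r => ?_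
      show fwd ((1 : A) ⊗ₜ[A'] r) = _
      rw [Algebra.TensorProduct.lift_tmul, map_one, one_mul]
      rfl
    exact ⟨(Algebra.IsPushout.cancelBaseChangeAlg A' A R' R B').symm.trans (e.restrictScalars A)⟩

theorem tower_iso_base (p n : ℕ) {A A₂ B : Type u} [CommRing A] [CommRing A₂] [CommRing B]
    [Algebra A B] [Algebra A₂ B] (eA : A₂ ≃+* A)
    (h : ∀ x, algebraMap A B (eA x) = algebraMap A₂ B x) (htow : Quiet.IsRootTower p n A B) :
    Quiet.IsRootTower p n A₂ B := by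
  letI : Algebra A₂ A := eA.toRingHom.toAlgebra
  have : IsScalarTower A₂ A B := .of_algebraMap_eq fun x => (h x).symm
  have h0 : Quiet.IsRootTower p 0 A₂ A :=
    ⟨AlgEquiv.ofRingEquiv (f := eA.symm) fun x => eA.symm_apply_apply x⟩
  have := tower_trans p 0 n A₂ A B h0 htow
  rwa [Nat.zero_add] at this

set_option backward.isDefEq.respectTransparency.types false in
theorem isPthRoot_specMap (p n : ℕ) {A B : CommRingCat.{u}} (φ : A ⟶ B)
    (htow : letI := φ.hom.toAlgebra; Quiet.IsRootTower p n A B) : Quiet.IsPthRoot p (Spec.map φ) := by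
  intro x
  refine ⟨⟨⊤, isAffineOpen_top _⟩, trivial, isAffineOpen_top _, n, ?_⟩
  letI : Algebra A B := φ.hom.toAlgebra
  letI := ((Spec.map φ).app ⊤).hom.toAlgebra
  let eA := (Scheme.ΓSpecIso A).commRingCatIsoToRingEquiv
  let eB := (Scheme.ΓSpecIso B).commRingCatIsoToRingEquiv
  letI : Algebra Γ(Spec A, ⊤) B := (φ.hom.comp eA.toRingHom).toAlgebra
  have h1 : Quiet.IsRootTower p n Γ(Spec A, ⊤) B := tower_iso_base p n eA (fun _ => rfl) htow
  refine tower_congr p n _ _ _ (AlgEquiv.ofRingEquiv (f := eB.symm) fun x => ?_) h1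
  refine eB.injective ?_
  refine (RingEquiv.apply_symm_apply _ _).trans ?_
  exact (congr($(Scheme.ΓSpecIso_naturality φ).hom x)).symm

set_option backward.isDefEq.respectTransparency.types false in
theorem exists_quiet_lift (p : ℕ) [hp : Fact p.Prime] {T U U' : Scheme.{u}} (i : U ⟶ T) [IsClosedImmersion i]
    [Surjective i] (f' : U' ⟶ U) (hf' : Quiet.IsQuiet p f') (u : U') :
    ∃ (V : U'.Opens) (T' : Scheme.{u}) (q : T' ⟶ T) (j : (V : Scheme.{u}) ⟶ T'),
      u ∈ V ∧ Quiet.IsQuiet p q ∧ IsPullback j (V.ι ≫ f') q i := by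
  obtain ⟨V, U₂, r, e, hu, hr, he, eq⟩ := hf' u
  obtain ⟨W, hW, ⟨L⟩⟩ := Unr55.EtGlue.lift_of_isClosedImmersion i U₂ e (r ⟨u, hu⟩)
  have : IsClosedImmersion L.a := MorphismProperty.of_isPullback L.isPullback.flip ‹IsClosedImmersion i›
  let s : (r ⁻¹ᵁ W : Scheme.{u}) ⟶ W := r ∣_ W
  have hs : Quiet.IsPthRoot p s := isPthRoot_restrict p r hr W
  let w : W := ⟨r ⟨u, hu⟩, hW⟩
  obtain ⟨U₀, hwU₀, hT₀⟩ := hs w
  obtain ⟨O₀, hO₀, hO₀eq⟩ := (L.a.isClosedEmbedding.isInducing.isOpen_iff).1 U₀.1.2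
  obtain ⟨_, ⟨O₁, hO₁, rfl⟩, hwO, hOle⟩ :=
    L.V.isBasis_affineOpens.exists_subset_of_mem_open (show L.a w ∈ O₀ from hO₀eq.ge hwU₀) hO₀
  let O : L.V.Opens := O₁
  have hO : IsAffineOpen O := hO₁
  have haO : L.a ⁻¹ᵁ O ≤ U₀.1 := fun x hx => hO₀eq.le (hOle hx)
  obtain ⟨b, hb, hwb⟩ := U₀.2.exists_basicOpen_le (V := L.a ⁻¹ᵁ O) ⟨w, hwO⟩ hwU₀
  obtain ⟨d, hd⟩ := L.a.app_surjective O hO ((W : Scheme.{u}).presheaf.map (homOfLE haO).op b)
  have hDb : L.a ⁻¹ᵁ L.V.basicOpen d = (W : Scheme.{u}).basicOpen b := by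
    rw [Scheme.preimage_basicOpen, hd, Scheme.basicOpen_res]
    exact inf_eq_right.2 hb
  let D := L.V.basicOpen d
  have hD : IsAffineOpen D := hO.basicOpen d
  have hT₁ : HasTower p s ⟨L.a ⁻¹ᵁ L.V.basicOpen d, hD.preimage L.a⟩ := by
    convert HasTower.basicOpen (show HasTower p s U₀ from hT₀) b using 1
    exact Subtype.ext hDb
  obtain ⟨hpre, n, htow⟩ := hT₁
  let A' := Γ(L.V, D)
  let A := Γ((W : Scheme.{u}), L.a ⁻¹ᵁ D)
  let B := Γ((r ⁻¹ᵁ W : Scheme.{u}), s ⁻¹ᵁ (L.a ⁻¹ᵁ D))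
  letI : Algebra A B := (s.app (L.a ⁻¹ᵁ D)).hom.toAlgebra
  letI : Algebra A' A := (L.a.app D).hom.toAlgebra
  obtain ⟨B', cB, aB, htow', ⟨ε⟩⟩ := exists_tower_lift p n A' A B (L.a.app_surjective D hD) htow
  let φ : A' ⟶ CommRingCat.of B' := CommRingCat.ofHom (algebraMap A' B')
  let d' : B' →+* B := ε.toRingEquiv.toRingHom.comp
    (Algebra.TensorProduct.includeRight : B' →ₐ[A'] A ⊗[A'] B').toRingHom
  have hpo : CategoryTheory.IsPushout (L.a.app D) φ (s.app (L.a ⁻¹ᵁ D)) (CommRingCat.ofHom d') :=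
    (CommRingCat.isPushout_tensorProduct A' A B').of_iso (Iso.refl _) (Iso.refl _) (Iso.refl _)
      ε.toRingEquiv.toCommRingCatIso (by ext; rfl) (by ext; rfl)
      (CommRingCat.hom_ext (RingHom.ext fun a => ε.commutes a)) (by ext; rfl)
  have hA : IsAffineOpen (L.a ⁻¹ᵁ D) := hD.preimage L.a
  have hres : IsPullback (Spec.map (L.a.app D)) hA.fromSpec hD.fromSpec L.a :=
    (isPullback_morphismRestrict L.a D).of_iso hA.isoSpec hD.isoSpec (Iso.refl _) (Iso.refl _)
      (by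
        rw [← cancel_mono hD.fromSpec]
        simp only [Category.assoc, Scheme.Hom.app_eq_appLE,
          IsAffineOpen.SpecMap_appLE_fromSpec (f := L.a) hD hA le_rfl, IsAffineOpen.isoSpec_hom_fromSpec]
        rw [← Category.assoc, IsAffineOpen.isoSpec_hom_fromSpec, morphismRestrict_ι])
      (by simp) (by simp) (by simp)
  have hbig : IsPullback (Spec.map (CommRingCat.ofHom d'))
      (Spec.map (s.app (L.a ⁻¹ᵁ D)) ≫ hA.fromSpec ≫ W.ι ≫ e)
      (Spec.map φ ≫ hD.fromSpec ≫ L.q) i :=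
    (isPullback_SpecMap_of_isPushout _ _ _ _ hpo).flip.paste_vert (hres.paste_vert L.isPullback)
  let k : Spec (CommRingCat.of B) ⟶ U' := hpre.fromSpec ≫ (r ⁻¹ᵁ W).ι ≫ V.ι
  have : IsOpenImmersion k := inferInstance
  have hk : k ≫ f' = Spec.map (s.app (L.a ⁻¹ᵁ D)) ≫ hA.fromSpec ≫ W.ι ≫ e := by
    simp only [k, Category.assoc, ← eq]
    rw [Scheme.Hom.app_eq_appLE, reassoc_of% (IsAffineOpen.SpecMap_appLE_fromSpec (f := s) hA hpre le_rfl),
      morphismRestrict_ι_assoc]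
  rw [← hk] at hbig
  refine ⟨k.opensRange, Spec (CommRingCat.of B'), Spec.map φ ≫ hD.fromSpec ≫ L.q,
    k.isoOpensRange.inv ≫ Spec.map (CommRingCat.ofHom d'), ?_, ?_, ?_⟩
  · have hus : (⟨⟨u, hu⟩, hW⟩ : (r ⁻¹ᵁ W : Scheme.{u})) ∈ s ⁻¹ᵁ (L.a ⁻¹ᵁ D) := by
      have : w ∈ L.a ⁻¹ᵁ D := hDb.ge hwb
      show s _ ∈ L.a ⁻¹ᵁ D
      exact (Subtype.ext (morphismRestrict_base_coe r W ⟨⟨u, hu⟩, hW⟩) : s ⟨⟨u, hu⟩, hW⟩ = w).symm ▸ this
    obtain ⟨z, hz⟩ : (⟨⟨u, hu⟩, hW⟩ : (r ⁻¹ᵁ W : Scheme.{u})) ∈ Set.range hpre.fromSpec := by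
      rw [hpre.range_fromSpec]; exact hus
    exact ⟨z, by simp only [k, Scheme.Hom.comp_apply, hz]; rfl⟩
  · intro y
    refine ⟨⊤, Spec A', (⊤ : (Spec (CommRingCat.of B')).Opens).ι ≫ Spec.map φ, hD.fromSpec ≫ L.q, trivial, ?_,
      inferInstance, by simp⟩
    have := (Scheme.topIso (Spec (CommRingCat.of B'))).isIso_hom
    have : IsIso (⊤ : (Spec (CommRingCat.of B')).Opens).ι := this
    refine isPthRoot_baseChange p (q := (⊤ : (Spec (CommRingCat.of B')).Opens).ι) (h := 𝟙 _) ?_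
      (isPthRoot_specMap p n φ ?_)
    · exact IsPullback.of_horiz_isIso ⟨by simp⟩
    · exact (Algebra.algebra_ext _ aB fun _ => rfl : φ.hom.toAlgebra = aB).symm ▸ htow'
  · refine hbig.of_iso k.isoOpensRange (Iso.refl _) (Iso.refl _) (Iso.refl _) ?_ ?_ ?_ ?_
    · simp
    · simp
    · simp
    · simp

end Groth.Agent.Quiet96
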