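import Groth.Agent.Quiet96.BaseChange
import Groth.Agent.UH57.Basic
import Groth.Prelude.Def_Frob
import Mathlib.AlgebraicGeometry.Morphisms.Integral

/-! Root morphisms in characteristic p are universal homeomorphisms. -/

set_option autoImplicit false
universe u

open CategoryTheory CategoryTheory.Limits AlgebraicGeometry

namespace Groth.Agent.Quiet96

theorem pow_mem_range_rootRing (p : ℕ) [hp : Fact p.Prime] {A : Type u} [CommRing A] (hpA : (p : A) = 0)
    (a : A) (b : Quiet.RootRing p A a) : b ^ p ∈ (algebraMap A (Quiet.RootRing p A a)).range := by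
  let f : Polynomial A := Polynomial.X ^ p - Polynomial.C a
  let R := Quiet.RootRing p A a
  have hpR : (p : R) = 0 := by rw [← map_natCast (algebraMap A R), hpA, map_zero]
  obtain ⟨P, rfl⟩ := AdjoinRoot.mk_surjective (g := f) b
  induction P using Polynomial.induction_on' with
  | add P Q hP hQ =>
    rw [map_add]
    obtain ⟨r, hr⟩ := exists_add_pow_prime_eq hp.out (AdjoinRoot.mk f P) (AdjoinRoot.mk f Q)
    rw [hr, hpR, zero_mul, zero_mul, zero_mul, add_zero]
    exact add_mem hP hQ
  | monomial m c =>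
    refine ⟨c ^ p * a ^ m, ?_⟩
    have h0 := AdjoinRoot.eval₂_root f
    rw [Polynomial.eval₂_sub, Polynomial.eval₂_X_pow, Polynomial.eval₂_C, sub_eq_zero] at h0
    rw [← Polynomial.C_mul_X_pow_eq_monomial, map_mul, map_pow, map_mul, map_pow, map_pow,
      AdjoinRoot.mk_C, AdjoinRoot.mk_X, mul_pow, ← pow_mul, mul_comm m p, pow_mul, h0]
    rfl

theorem tower_radical (p : ℕ) [hp : Fact p.Prime] : ∀ (n : ℕ) (A B : Type u) [CommRing A] [CommRing B]
    [Algebra A B], (p : A) = 0 → Quiet.IsRootTower p n A B →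
      Module.Finite A B ∧ Function.Injective (algebraMap A B) ∧ ∀ b : B, b ^ p ^ n ∈ (algebraMap A B).range
  | 0, A, B, _, _, _, _, h => by
    obtain ⟨e⟩ := h
    refine ⟨Module.Finite.equiv e.toLinearEquiv.symm, fun x y hxy => ?_, fun b => ⟨e b, ?_⟩⟩
    · simpa using congrArg e hxy
    · rw [pow_zero, pow_one, ← e.symm.commutes]; exact e.symm_apply_apply b
  | n + 1, A, B, _, _, _, hpA, h => by
    obtain ⟨a, _, hs, hn⟩ := h
    let R := Quiet.RootRing p A a
    have hpR : (p : R) = 0 := by rw [← map_natCast (algebraMap A R), hpA, map_zero]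
    obtain ⟨h1, h2, h3⟩ := tower_radical p n R B hpR hn
    have hmonic : (Polynomial.X ^ p - Polynomial.C a : Polynomial A).Monic :=
      Polynomial.monic_X_pow_sub_C a hp.out.ne_zero
    have : Module.Finite A R := hmonic.finite_adjoinRoot
    refine ⟨Module.Finite.trans R B, ?_, fun b => ?_⟩
    · rw [IsScalarTower.algebraMap_eq A R B]
      refine h2.comp ?_
      intro x y hxy
      refine sub_eq_zero.1 (by_contra fun hne => ?_)
      have h0 : AdjoinRoot.mk (Polynomial.X ^ p - Polynomial.C a) (Polynomial.C (x - y)) = 0 := by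
        rw [AdjoinRoot.mk_C, map_sub, sub_eq_zero]; exact hxy
      have hd := AdjoinRoot.mk_eq_zero.1 h0
      have hnt : Nontrivial A := nontrivial_of_ne _ _ hne
      have hlt : (Polynomial.C (x - y)).degree < (Polynomial.X ^ p - Polynomial.C a : Polynomial A).degree := by
        rw [Polynomial.degree_X_pow_sub_C hp.out.pos, Polynomial.degree_C hne]
        exact_mod_cast hp.out.pos
      exact hmonic.not_dvd_of_degree_lt (Polynomial.C_ne_zero.2 hne) hlt hd
    · obtain ⟨r, hr⟩ := h3 b
      obtain ⟨c, hc⟩ := pow_mem_range_rootRing p hpA a r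
      refine ⟨c, ?_⟩
      rw [IsScalarTower.algebraMap_apply A R B, hc, map_pow, hr, ← pow_mul, pow_succ]

theorem isUnivHomeo_tower (p : ℕ) [hp : Fact p.Prime] (n : ℕ) (A B : Type u) [CommRing A] [CommRing B]
    [Algebra A B] (hpA : (p : A) = 0) (h : Quiet.IsRootTower p n A B) :
    FlatMor.IsUnivHomeo (Spec.map (CommRingCat.ofHom (algebraMap A B))) := by
  obtain ⟨h1, h2, h3⟩ := tower_radical p n A B hpA h
  refine UH57.isUnivHomeo_iff.2 ⟨inferInstance, UH57.hInj_iff.1 fun K _ g₁ g₂ e => ?_, ?_⟩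
  · refine RingHom.ext fun b => ?_
    obtain ⟨c, hc⟩ := h3 b
    have hK : (p : K) = 0 := by
      rw [← map_natCast (g₁.comp (algebraMap A B)), hpA, map_zero]
    have : CharP K p := (CharP.charP_iff_prime_eq_zero hp.out).2 hK
    have : ExpChar K p := ExpChar.prime hp.out
    refine iterateFrobenius_inj K p n ?_
    rw [iterateFrobenius_def, iterateFrobenius_def, ← map_pow, ← map_pow, ← hc]
    exact congr($e c)
  · rw [(RingHom.injective_iff_ker_eq_bot _).1 h2]; exact bot_le

set_option backward.isDefEq.respectTransparency.types false in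
theorem univHomeo_isPthRoot (p : ℕ) [Fact p.Prime] {V Y : Scheme.{u}} [FrobSch.IsCharP Y p] (r : V ⟶ Y)
    (hr : Quiet.IsPthRoot p r) : IsIntegralHom r ∧ UniversallyInjective r ∧ Surjective r := by
  choose U hU hpre n htow using hr
  have key : ∀ y, IsIntegralHom (r ∣_ (U y).1) ∧ UniversallyInjective (r ∣_ (U y).1) ∧
      Surjective (r ∣_ (U y).1) := fun y => by
    letI := (r.app (U y).1).hom.toAlgebra
    have huh := isUnivHomeo_tower p (n y) Γ(Y, (U y).1) Γ(V, r ⁻¹ᵁ (U y).1)
      (FrobSch.natCast_eq_zero_app Y p _) (htow y)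
    obtain ⟨hc, hui, hsj⟩ := (UH57.isUnivHomeo_iff' _).1 huh
    have hfin := (tower_radical p (n y) Γ(Y, (U y).1) Γ(V, r ⁻¹ᵁ (U y).1)
      (FrobSch.natCast_eq_zero_app Y p _) (htow y)).1
    have hint : IsIntegralHom (Spec.map (r.app (U y).1)) :=
      (IsIntegralHom.SpecMap_iff (φ := r.app (U y).1)).2 (Algebra.IsIntegral.isIntegral (R := Γ(Y, (U y).1)))
    let e : Arrow.mk (r ∣_ (U y).1) ≅ Arrow.mk (Spec.map (r.app (U y).1)) :=
      Arrow.isoMk (hpre y).isoSpec (U y).2.isoSpec (by
        rw [← cancel_mono (U y).2.fromSpec]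
        simp only [Arrow.mk_hom, Category.assoc, Scheme.Hom.app_eq_appLE,
          IsAffineOpen.SpecMap_appLE_fromSpec (f := r) (U y).2 (hpre y) le_rfl,
          IsAffineOpen.isoSpec_hom_fromSpec]
        rw [← Category.assoc, IsAffineOpen.isoSpec_hom_fromSpec, morphismRestrict_ι])
    exact ⟨(MorphismProperty.arrow_mk_iso_iff @IsIntegralHom e).2 hint,
      (MorphismProperty.arrow_mk_iso_iff @UniversallyInjective e).2 hui,
      (MorphismProperty.arrow_mk_iso_iff @Surjective e).2 hsj⟩
  have hcov : (⨆ y, (U y).1) = ⊤ := top_le_iff.1 fun y _ => TopologicalSpace.Opens.mem_iSup.2 ⟨y, hU y⟩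
  exact ⟨IsZariskiLocalAtTarget.of_iSup_eq_top (P := @IsIntegralHom) _ hcov fun y => (key y).1,
    IsZariskiLocalAtTarget.of_iSup_eq_top (P := @UniversallyInjective) _ hcov fun y => (key y).2.1,
    IsZariskiLocalAtTarget.of_iSup_eq_top (P := @Surjective) _ hcov fun y => (key y).2.2⟩

end Groth.Agent.Quiet96
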