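import Groth.Agent.Quiet96.Tower
import Groth.Agent.RelGCI94.SyntProperty
import Mathlib.AlgebraicGeometry.Morphisms.Etale

/-! Quasi-étale morphisms are syntomic. -/

set_option autoImplicit false
universe u

open CategoryTheory CategoryTheory.Limits AlgebraicGeometry

namespace Groth.Agent.Quiet96

set_option backward.isDefEq.respectTransparency.types false in
theorem isSyntomicAt_comp {V Y' X : Scheme.{u}} (p : ℕ) (hp : 0 < p) (r : V ⟶ Y')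
    (hr : Quiet.IsPthRoot p r) (e : Y' ⟶ X) [Etale e] (v : V) : Synt.IsSyntomicAt (r ≫ e) v := by
  obtain ⟨U, hvU, hpre, n, htow⟩ := hr (r v)
  obtain ⟨_, ⟨W, hW, rfl⟩, heW, -⟩ :=
    X.isBasis_affineOpens.exists_subset_of_mem_open (Set.mem_univ (e (r v))) isOpen_univ
  let W₀ : X.Opens := W
  have hW₀ : IsAffineOpen W₀ := hW
  obtain ⟨a, hale, hva⟩ := U.2.exists_basicOpen_le
    (V := U.1 ⊓ e ⁻¹ᵁ W₀) ⟨r v, show r v ∈ U.1 ⊓ e ⁻¹ᵁ W₀ from ⟨hvU, heW⟩⟩ hvU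
  have hDW : Y'.basicOpen a ≤ e ⁻¹ᵁ W₀ := hale.trans inf_le_right
  have hDa : IsAffineOpen (Y'.basicOpen a) := U.2.basicOpen a
  have hpreD : r ⁻¹ᵁ Y'.basicOpen a = V.basicOpen (r.app U.1 a) := Scheme.preimage_basicOpen r a
  have hVD : IsAffineOpen (r ⁻¹ᵁ Y'.basicOpen a) := by rw [hpreD]; exact hpre.basicOpen _
  have hle : r ⁻¹ᵁ Y'.basicOpen a ≤ (r ≫ e) ⁻¹ᵁ W₀ := fun x hx => hDW hx
  refine ⟨⟨_, hVD⟩, ⟨W₀, hW₀⟩, hle, hva, ?_⟩
  let D := Y'.basicOpen a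
  let R := Γ(X, W₀)
  let A := Γ(Y', U.1)
  let B := Γ(V, r ⁻¹ᵁ U.1)
  let A' := Γ(Y', D)
  let B' := Γ(V, r ⁻¹ᵁ D)
  algebraize [(r.app U.1).hom]
  let i₁ : U.1 ≥ D := Y'.basicOpen_le a
  let i₂ : r ⁻¹ᵁ D ≤ r ⁻¹ᵁ U.1 := fun x hx => i₁ hx
  letI : Algebra A A' := (Y'.presheaf.map (homOfLE i₁).op).hom.toAlgebra
  letI : Algebra B B' := (V.presheaf.map (homOfLE i₂).op).hom.toAlgebra
  letI : Algebra A' B' := (r.app D).hom.toAlgebra
  letI : Algebra A B' := ((algebraMap B B').comp (algebraMap A B)).toAlgebra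
  have : IsScalarTower A B B' := .of_algebraMap_eq fun _ => rfl
  have : IsScalarTower A A' B' := .of_algebraMap_eq fun x =>
    (congr($(Scheme.Hom.naturality r (homOfLE i₁).op).hom x)).symm
  have : IsLocalization.Away a A' := U.2.isLocalization_basicOpen a
  have : IsLocalization.Away (algebraMap A B a) B' := by
    refine hpre.isLocalization_of_eq_basicOpen (algebraMap A B a) (homOfLE i₂) ?_
    exact hpreD
  have h1 : SqPres A' B' := (sqPres_rootTower p hp n A B htow).localize a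
  let φ := e.appLE W₀ D hDW
  have hφ : φ.hom.Etale := HasRingHomProperty.appLE (P := @Etale) e inferInstance ⟨W₀, hW₀⟩ ⟨D, hDa⟩ hDW
  letI : Algebra R A' := φ.hom.toAlgebra
  have : Algebra.Etale R A' := hφ
  letI : Algebra R B' := ((r ≫ e).appLE W₀ (r ⁻¹ᵁ D) hle).hom.toAlgebra
  have : IsScalarTower R A' B' := .of_algebraMap_eq fun x => by
    show ((r ≫ e).appLE W₀ (r ⁻¹ᵁ D) hle).hom x = (r.app D).hom (φ.hom x)
    rw [← Scheme.Hom.appLE_comp_appLE r e W₀ D (r ⁻¹ᵁ D) hDW le_rfl, Scheme.Hom.app_eq_appLE]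
    rfl
  exact ((sqPres_of_etale (R := R) (S := A')).trans h1).isSyntomic

theorem isSyntomicMor_of_isQuiet (p : ℕ) (hp : 0 < p) {X Y : Scheme.{u}} (f : Y ⟶ X)
    (hf : Quiet.IsQuiet p f) : Synt.IsSyntomicMor f := by
  intro y
  obtain ⟨V, Y', r, e, hy, hr, he, eq⟩ := hf y
  obtain ⟨U, W, hle, hyU, hs⟩ : Synt.IsSyntomicAt (V.ι ≫ f) ⟨y, hy⟩ := eq ▸ isSyntomicAt_comp p hp r hr e _
  refine ⟨⟨V.ι ''ᵁ U.1, U.2.image_of_isOpenImmersion V.ι⟩, W, ?_, ⟨⟨y, hy⟩, hyU, rfl⟩, ?_⟩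
  · rintro _ ⟨z, hz, rfl⟩
    exact hle hz
  · have key : (V.ι ≫ f).appLE W.1 U.1 hle = f.appLE W.1 (V.ι ''ᵁ U.1) (by
        rintro _ ⟨z, hz, rfl⟩; exact hle hz) := by
      rw [← Scheme.Hom.appLE_comp_appLE V.ι f W.1 (V.ι ''ᵁ U.1) U.1
        (by rintro _ ⟨z, hz, rfl⟩; exact hle hz) (V.ι.preimage_image_eq U.1).ge, Scheme.Opens.ι_appLE]
      exact Scheme.Hom.appLE_map _ _ _
    exact key ▸ hs

end Groth.Agent.Quiet96
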