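import Groth.Agent.RelGCI94.SmoothSyn
import Groth.Prelude.Def_RegImm
import Groth.Prelude.Def_W4c2gaugesfzipsQuiet
import Mathlib.RingTheory.Unramified.LocalStructure
import Mathlib.RingTheory.RingHom.LocallyStandardSmooth

/-! Square presentations with quasi-finite fibres; towers of p-th root extractions. -/

set_option autoImplicit false
universe u

open TensorProduct Algebra

namespace Groth.Agent.Quiet96

variable (R S : Type u) [CommRing R] [CommRing S] [Algebra R S]

/-- as many relations as generators, finite fibres -/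
def SqPres : Prop :=
  Algebra.QuasiFinite R S ∧ ∃ n : ℕ, Nonempty (Algebra.Presentation R S (Fin n) (Fin n))

variable {R S}

theorem SqPres.of_equiv {T : Type u} [CommRing T] [Algebra R T] (e : S ≃ₐ[R] T) (h : SqPres R S) :
    SqPres R T := by
  obtain ⟨h1, n, ⟨P⟩⟩ := h
  exact ⟨Algebra.QuasiFinite.of_surjective_algHom e.toAlgHom e.surjective, n, ⟨P.ofAlgEquiv e⟩⟩

theorem SqPres.trans {T : Type u} [CommRing T] [Algebra R T] [Algebra S T] [IsScalarTower R S T]
    (h : SqPres R S) (h' : SqPres S T) : SqPres R T := by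
  obtain ⟨h1, n, ⟨P⟩⟩ := h
  obtain ⟨h2, m, ⟨Q⟩⟩ := h'
  exact ⟨Algebra.QuasiFinite.trans R S T, m + n,
    ⟨(Q.comp P).reindex finSumFinEquiv.symm finSumFinEquiv.symm⟩⟩

theorem SqPres.baseChange (T : Type u) [CommRing T] [Algebra R T] (h : SqPres R S) :
    SqPres T (T ⊗[R] S) := by
  obtain ⟨h1, n, ⟨P⟩⟩ := h
  exact ⟨inferInstance, n, ⟨P.baseChange T⟩⟩

theorem dim_artinian {T : Type u} [CommRing T] [IsArtinianRing T] [Nontrivial T] :
    ringKrullDim T = ((0 : ℕ) : WithBot ℕ∞) :=
  ringKrullDimZero_iff_ringKrullDim_eq_zero.1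
    (Ring.KrullDimLE.mk₀ fun I _ => IsArtinianRing.isMaximal_of_isPrime I)

theorem SqPres.isSyntomic (h : SqPres R S) : Synt.IsSyntomic R S := by
  obtain ⟨h1, n, ⟨P⟩⟩ := h
  let e : Synt.RelGCIRing R n n P.relation ≃ₐ[R] S :=
    (Ideal.quotientEquivAlgOfEq R P.span_range_relation_eq_ker).trans (P.quotientEquiv.restrictScalars R)
  refine RelGCI94.isSyntomic_congr e (RelGCI94.isSyntomic_relGCIRing R n n P.relation fun p hp => ?_)
  have : Algebra.QuasiFinite R (Synt.RelGCIRing R n n P.relation) :=
    Algebra.QuasiFinite.of_surjective_algHom e.symm.toAlgHom e.symm.surjective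
  refine ⟨le_rfl, ?_⟩
  have : IsArtinianRing (p.asIdeal.Fiber (Synt.RelGCIRing R n n P.relation)) := inferInstance
  rw [Nat.sub_self]
  exact @dim_artinian _ _ this hp

theorem sqPres_of_etale [Algebra.Etale R S] : SqPres R S := by
  obtain ⟨ι, σ, _, _, P, hP⟩ :=
    (Algebra.Etale.iff_isStandardSmoothOfRelativeDimension_zero (R := R) (S := S)).1 inferInstance
  have hc : Nat.card σ = Nat.card ι := by
    have h1 : Nat.card σ ≤ Nat.card ι := Nat.card_le_card_of_injective P.map P.map_inj
    have h2 : Nat.card ι - Nat.card σ = 0 := hP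
    omega
  exact ⟨inferInstance, Nat.card ι, ⟨P.toPresentation.reindex (Finite.equivFin ι).symm
    ((finCongr hc.symm).trans (Finite.equivFin σ).symm)⟩⟩

theorem sqPres_rootRing (p : ℕ) (hp : 0 < p) (a : R) : SqPres R (Quiet.RootRing p R a) := by
  have hmonic : (Polynomial.X ^ p - Polynomial.C a : Polynomial R).Monic :=
    Polynomial.monic_X_pow_sub_C a hp.ne'
  have : Module.Finite R (Quiet.RootRing p R a) := hmonic.finite_adjoinRoot
  let v : Fin 1 → MvPolynomial (Fin 1) R := fun _ => MvPolynomial.X 0 ^ p - MvPolynomial.C a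
  let φ : MvPolynomial (Fin 1) R ≃ₐ[R] Polynomial R :=
    (MvPolynomial.renameEquiv R finOneEquiv).trans (MvPolynomial.uniqueAlgEquiv R _)
  have hspan : (Ideal.span {(Polynomial.X ^ p - Polynomial.C a : Polynomial R)}) =
      (Ideal.span (Set.range v)).map φ := by
    rw [Set.range_unique, Ideal.map_span, Set.image_singleton]
    congr 2
    simp [v, φ]
  let e := Ideal.quotientEquivAlg (Ideal.span (Set.range v)) _ φ hspan
  exact ⟨inferInstance, 1, ⟨(Algebra.Presentation.naive (R := R) (v := v)).ofAlgEquiv e⟩⟩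

theorem sqPres_rootTower (p : ℕ) (hp : 0 < p) : ∀ (n : ℕ) (A B : Type u) [CommRing A] [CommRing B]
    [Algebra A B], Quiet.IsRootTower p n A B → SqPres A B
  | 0, A, B, _, _, _, h => by
    obtain ⟨e⟩ := h
    exact (sqPres_of_etale (R := A) (S := A)).of_equiv e.symm
  | n + 1, A, B, _, _, _, h => by
    obtain ⟨a, _, _, hn⟩ := h
    exact (sqPres_rootRing p hp a).trans (sqPres_rootTower p hp n _ _ hn)

end Groth.Agent.Quiet96

namespace Groth.Agent.Quiet96

/-- localisation of a square presentation at an element of the base -/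
theorem SqPres.localize {A B A' B' : Type u} [CommRing A] [CommRing B] [CommRing A'] [CommRing B']
    [Algebra A B] [Algebra A A'] [Algebra B B'] [Algebra A B'] [Algebra A' B']
    [IsScalarTower A B B'] [IsScalarTower A A' B'] (a : A) [IsLocalization.Away a A']
    [IsLocalization.Away (algebraMap A B a) B'] (h : SqPres A B) : SqPres A' B' := by
  have : IsLocalization (Algebra.algebraMapSubmonoid B (Submonoid.powers a)) B' := by
    rw [Algebra.algebraMapSubmonoid, Submonoid.map_powers]; infer_instance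
  have hp : Algebra.IsPushout A B A' B' :=
    Algebra.isPushout_of_isLocalization (R := A) (Submonoid.powers a) (A := A') B B'
  have := hp.symm
  exact (h.baseChange A').of_equiv (Algebra.IsPushout.equiv A A' B B')

end Groth.Agent.Quiet96
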